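import Mathlib

set_option autoImplicit false

/-! Conjugacy of non-scalar 2×2 invertible matrices with their companion matrices. -/

namespace CfsgLib.GLTwoClasses

variable {F : Type*} [Field F]

open Matrix

/-- The companion matrix with trace `t` and determinant `d`. -/
def comp (t : F) (d : Fˣ) : GL (Fin 2) F :=
  GeneralLinearGroup.mkOfDetNeZero !![0, -(d : F); 1, t] (by simp [det_fin_two])

lemma comp_val (t : F) (d : Fˣ) : (comp t d : Matrix (Fin 2) (Fin 2) F) = !![0, -(d : F); 1, t] := rfl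

/-- The scalar matrix `c`. -/
def scal (c : Fˣ) : GL (Fin 2) F :=
  GeneralLinearGroup.mkOfDetNeZero !![(c : F), 0; 0, (c : F)] (by simp [det_fin_two])

lemma scal_val (c : Fˣ) : (scal c : Matrix (Fin 2) (Fin 2) F) = (c : F) • 1 := by
  show !![(c : F), 0; 0, (c : F)] = _
  ext i j; fin_cases i <;> fin_cases j <;> simp

/-- A matrix is scalar. -/
def IsScal (A : Matrix (Fin 2) (Fin 2) F) : Prop := ∃ c : F, A = c • 1

lemma not_isScal_comp (t : F) (d : Fˣ) : ¬ IsScal (comp t d : Matrix (Fin 2) (Fin 2) F) := by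
  rintro ⟨c, hc⟩
  have := congrFun (congrFun hc 1) 0
  simp [comp_val] at this

lemma conj_invariants {g h : GL (Fin 2) F} (hc : IsConj g h) :
    (g : Matrix (Fin 2) (Fin 2) F).trace = (h : Matrix (Fin 2) (Fin 2) F).trace ∧
    (g : Matrix (Fin 2) (Fin 2) F).det = (h : Matrix (Fin 2) (Fin 2) F).det ∧
    ∀ c : F, (g : Matrix (Fin 2) (Fin 2) F) = c • 1 → (h : Matrix (Fin 2) (Fin 2) F) = c • 1 := by
  obtain ⟨u, hu⟩ := isConj_iff.mp hc
  subst hu
  have hv : ((u * g * u⁻¹ : GL (Fin 2) F) : Matrix (Fin 2) (Fin 2) F) =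
      (u : Matrix (Fin 2) (Fin 2) F) * g * ((u⁻¹ : GL (Fin 2) F) : Matrix (Fin 2) (Fin 2) F) := by
    simp
  refine ⟨?_, ?_, fun c hgc => ?_⟩
  · rw [hv, trace_mul_comm, ← Matrix.mul_assoc, ← Units.val_mul, inv_mul_cancel, Units.val_one,
      Matrix.one_mul]
  · rw [hv, det_mul, det_mul, mul_comm (det _) (det (g : Matrix (Fin 2) (Fin 2) F)), mul_assoc,
      ← det_mul, ← Units.val_mul, mul_inv_cancel, Units.val_one, det_one, mul_one]
  · rw [hv, hgc, Matrix.mul_smul, Matrix.mul_one, Matrix.smul_mul, ← Units.val_mul, mul_inv_cancel,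
      Units.val_one]

lemma isConj_comp (g : GL (Fin 2) F) (hg : ¬ IsScal (g : Matrix (Fin 2) (Fin 2) F)) :
    IsConj g (comp (g : Matrix (Fin 2) (Fin 2) F).trace (GeneralLinearGroup.det g)) := by
  set A : Matrix (Fin 2) (Fin 2) F := (g : Matrix (Fin 2) (Fin 2) F) with hA
  obtain ⟨x, y, hne⟩ : ∃ x y : F,
      x * (A 1 0 * x + A 1 1 * y) - (A 0 0 * x + A 0 1 * y) * y ≠ 0 := by
    by_contra hall
    simp only [not_exists, not_not] at hall
    have h1 : A 1 0 = 0 := by simpa using hall 1 0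
    have h2 : A 0 1 = 0 := by simpa using hall 0 1
    have h3 := hall 1 1
    apply hg
    refine ⟨A 0 0, ?_⟩
    ext i j
    fin_cases i <;> fin_cases j <;> simp_all [sub_eq_zero]
  let P : GL (Fin 2) F := GeneralLinearGroup.mkOfDetNeZero
    !![x, A 0 0 * x + A 0 1 * y; y, A 1 0 * x + A 1 1 * y] (by simpa [det_fin_two] using hne)
  have hmul : g * P = P * comp A.trace (GeneralLinearGroup.det g) := by
    apply Units.ext
    show A * !![x, A 0 0 * x + A 0 1 * y; y, A 1 0 * x + A 1 1 * y] =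
      !![x, A 0 0 * x + A 0 1 * y; y, A 1 0 * x + A 1 1 * y] * !![0, -A.det; 1, A.trace]
    ext i j
    fin_cases i <;> fin_cases j <;>
      simp [Matrix.mul_apply, Fin.sum_univ_two, det_fin_two, trace_fin_two] <;> ring
  refine isConj_iff.mpr ⟨P⁻¹, ?_⟩
  rw [inv_inv, mul_assoc, hmul, inv_mul_cancel_left]

theorem isConj_of_trace_det {g h : GL (Fin 2) F} (hg : ¬ IsScal (g : Matrix (Fin 2) (Fin 2) F))
    (hh : ¬ IsScal (h : Matrix (Fin 2) (Fin 2) F))
    (ht : (g : Matrix (Fin 2) (Fin 2) F).trace = (h : Matrix (Fin 2) (Fin 2) F).trace)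
    (hd : (g : Matrix (Fin 2) (Fin 2) F).det = (h : Matrix (Fin 2) (Fin 2) F).det) :
    IsConj g h := by
  have hd' : GeneralLinearGroup.det g = GeneralLinearGroup.det h := Units.ext hd
  have h1 := isConj_comp g hg
  have h2 := isConj_comp h hh
  rw [ht, hd'] at h1
  exact h1.trans h2.symm

/-- The classification of the conjugacy classes of `GL₂(F)`. -/
noncomputable def classEquiv : Fˣ ⊕ (F × Fˣ) ≃ ConjClasses (GL (Fin 2) F) := by
  refine Equiv.ofBijective
    (Sum.elim (fun c => ConjClasses.mk (scal c)) fun p => ConjClasses.mk (comp p.1 p.2)) ⟨?_, ?_⟩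
  · intro a b hab
    rcases a with c | ⟨t, d⟩ <;> rcases b with c' | ⟨t', d'⟩ <;>
      have hc := conj_invariants (ConjClasses.mk_eq_mk_iff_isConj.mp hab)
    · have := congrFun (congrFun (hc.2.2 c (scal_val c)) 0) 0
      simp [scal_val] at this
      exact congrArg Sum.inl (Units.ext this.symm)
    · exact absurd ⟨_, hc.2.2 c (scal_val c)⟩ (not_isScal_comp t' d')
    · have hc' := conj_invariants (ConjClasses.mk_eq_mk_iff_isConj.mp hab).symm
      exact absurd ⟨_, hc'.2.2 c' (scal_val c')⟩ (not_isScal_comp t d)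
    · have ht := hc.1
      have hd := hc.2.1
      simp [comp_val, trace_fin_two, det_fin_two] at ht hd
      obtain rfl := Units.ext hd
      subst ht; rfl
  · intro q
    obtain ⟨g, rfl⟩ := ConjClasses.exists_rep q
    by_cases hg : IsScal (g : Matrix (Fin 2) (Fin 2) F)
    · obtain ⟨c, hc⟩ := hg
      have hc0 : c ≠ 0 := by
        intro h0
        have := (GeneralLinearGroup.det g).ne_zero
        simp [hc, h0] at this
      refine ⟨Sum.inl (Units.mk0 c hc0), congrArg ConjClasses.mk (Units.ext ?_)⟩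
      rw [scal_val, hc]; rfl
    · exact ⟨Sum.inr (_, _), ConjClasses.mk_eq_mk_iff_isConj.mpr (isConj_comp g hg).symm⟩

end CfsgLib.GLTwoClasses
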